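import Mathlib
import Cfsg.Agent.S0014

/-!
# Rigid colourings for `p`-groups (S4191, piece `lin_of_core`)

A group acting as a `p`-group on a finite set: colourings preserved only by the elements acting trivially, with two
colours (`p` odd), one of them used on less than `1/(p-1)` of the points, or three colours (`p = 2`).
-/

set_option autoImplicit false
set_option linter.unusedSectionVars false
set_option linter.style.haveILetI false

namespace Cfsg.Agent.H478.RC

open MulAction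

universe u v

/-- `K` acts on `Ω` through a `p`-group -/
def PAct (p : ℕ) (K : Type*) (Ω : Type*) [Group K] [MulAction K Ω] : Prop :=
  ∀ h : K, ∃ k : ℕ, ∀ x : Ω, h ^ p ^ k • x = x

theorem PAct.sub {p : ℕ} {K Ω : Type*} [Group K] [MulAction K Ω] (h : PAct p K Ω) (N : Subgroup K) : PAct p N Ω := by
  intro n
  obtain ⟨k, hk⟩ := h n
  exact ⟨k, hk⟩

theorem exists_index {K Ω : Type*} [Group K] [Finite K] [MulAction K Ω] {p : ℕ} [Fact p.Prime] (h : PAct p K Ω) (x : Ω)
    (hx : stabilizer K x ≠ ⊤) : ∃ N : Subgroup K, N.Normal ∧ N.index = p ∧ stabilizer K x ≤ N := by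
  classical
  set C : Subgroup K := (toPermHom K Ω).ker with hC
  have hCx : C ≤ stabilizer K x := by
    intro g hg
    rw [hC, MonoidHom.mem_ker] at hg
    rw [mem_stabilizer_iff]
    have := congrArg (fun f : Equiv.Perm Ω => f x) hg
    simpa using this
  have hP : IsPGroup p (K ⧸ C) := by
    intro q
    induction q using QuotientGroup.induction_on with
    | H g =>
      obtain ⟨k, hk⟩ := h g
      refine ⟨k, ?_⟩
      rw [← QuotientGroup.mk_pow, QuotientGroup.eq_one_iff, hC, MonoidHom.mem_ker]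
      ext y
      simpa using hk y
  set S : Subgroup (K ⧸ C) := (stabilizer K x).map (QuotientGroup.mk' C) with hS
  have hS1 : S ≠ ⊤ := by
    intro h1
    apply hx
    have h2 := congrArg (Subgroup.comap (QuotientGroup.mk' C)) h1
    rw [hS, Subgroup.comap_map_eq, QuotientGroup.ker_mk', Subgroup.comap_top, sup_eq_left.2 hCx] at h2
    exact h2
  obtain ⟨M, hM, hSM⟩ := (eq_top_or_exists_le_coatom S).resolve_left hS1
  obtain ⟨h1, h2⟩ := S0014.coatom_normal_index hP hM
  refine ⟨M.comap (QuotientGroup.mk' C), h1.comap _, ?_, ?_⟩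
  · rw [Subgroup.index_comap_of_surjective _ (QuotientGroup.mk'_surjective C), h2]
  · rw [← Subgroup.map_le_iff_le_comap]
    exact hSM

section step

variable {K : Type u} {Ω : Type v} [Group K] [Finite K] [Finite Ω] [MulAction K Ω] {p : ℕ} [Fact p.Prime]
  (N : Subgroup K) [N.Normal] (x : Ω)

/-- the block of the coset `q` -/
def blk (q : K ⧸ N) : Set Ω := {o | ∃ k : K, (k : K ⧸ N) = q ∧ k • x = o}

variable {N x}

theorem blk_inj (hs : stabilizer K x ≤ N) {q q' : K ⧸ N} {o : Ω} (h : o ∈ blk N x q) (h' : o ∈ blk N x q') : q = q' := by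
  obtain ⟨k, rfl, rfl⟩ := h
  obtain ⟨k', rfl, hk⟩ := h'
  rw [QuotientGroup.eq]
  apply hs
  rw [mem_stabilizer_iff, mul_smul, hk, inv_smul_smul]

theorem smul_blk {q : K ⧸ N} {o : Ω} (y : K) (h : o ∈ blk N x q) : y • o ∈ blk N x ((y : K ⧸ N) * q) := by
  obtain ⟨k, rfl, rfl⟩ := h
  exact ⟨y * k, rfl, mul_smul _ _ _⟩

theorem blk_eq (q : K ⧸ N) : blk N x q = orbit N (q.out • x) := by
  ext o
  constructor
  · rintro ⟨k, hk, rfl⟩
    have h1 : (q.out : K ⧸ N) = q := QuotientGroup.out_eq' q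
    rw [← hk] at h1
    have h2 : k * (k⁻¹ * ((k : K ⧸ N).out)) = (k : K ⧸ N).out := by group
    rw [QuotientGroup.eq] at h1
    refine ⟨⟨k * (((k : K ⧸ N).out)⁻¹ * k) * k⁻¹, (inferInstance : N.Normal).conj_mem _ h1 _⟩, ?_⟩
    subst hk
    change (k * (((k : K ⧸ N).out)⁻¹ * k) * k⁻¹) • ((k : K ⧸ N).out • x) = k • x
    rw [← mul_smul]
    congr 1
    group
  · rintro ⟨n, rfl⟩
    refine ⟨(n : K) * q.out, ?_, mul_smul _ _ _⟩
    rw [QuotientGroup.mk_mul, (QuotientGroup.eq_one_iff _).2 n.2, one_mul, QuotientGroup.out_eq']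

theorem mem_orbit_iff_blk {o : Ω} : o ∈ orbit K x ↔ ∃ q : K ⧸ N, o ∈ blk N x q := by
  constructor
  · rintro ⟨k, rfl⟩
    exact ⟨k, k, rfl, rfl⟩
  · rintro ⟨q, k, -, rfl⟩
    exact ⟨k, rfl⟩

/-- the block of a point of the orbit -/
noncomputable def bof (N : Subgroup K) [N.Normal] (x : Ω) (o : Ω) : K ⧸ N := by
  classical
  exact if h : ∃ q : K ⧸ N, o ∈ blk N x q then h.choose else 1

theorem bof_eq (hs : stabilizer K x ≤ N) {q : K ⧸ N} {o : Ω} (h : o ∈ blk N x q) : bof N x o = q := by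
  have h1 : ∃ q : K ⧸ N, o ∈ blk N x q := ⟨q, h⟩
  rw [bof, dif_pos h1]
  exact blk_inj hs h1.choose_spec h

/-- weight of a colouring on a set -/
noncomputable def wt (c : Ω → ℕ) (S : Set Ω) : ℕ := ∑ᶠ o ∈ S, c o

theorem wt_union (hs : stabilizer K x ≤ N) (c : K ⧸ N → Ω → ℕ) :
    wt (fun o => c (bof N x o) o) (orbit K x) = ∑ᶠ q : K ⧸ N, wt (c q) (blk N x q) := by
  have h1 : orbit K x = ⋃ q : K ⧸ N, blk N x q := by
    ext o
    rw [Set.mem_iUnion]
    exact mem_orbit_iff_blk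
  rw [wt, h1, finsum_mem_iUnion]
  · apply finsum_congr
    intro q
    apply finsum_mem_congr rfl
    intro o ho
    rw [bof_eq hs ho]
  · intro q q' hq
    rw [Function.onFun, Set.disjoint_left]
    intro o h1 h2
    exact hq (blk_inj hs h1 h2)
  · intro q
    exact Set.toFinite _

theorem wt_smul (c : Ω → ℕ) (S S' : Set Ω) (y : K) (h1 : ∀ o ∈ S, y • o ∈ S') (h2 : ∀ o ∈ S', y⁻¹ • o ∈ S)
    (h3 : ∀ o ∈ S, c (y • o) = c o) : wt c S' = wt c S := by
  have h4 : S' = (fun o => y • o) '' S := by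
    ext o
    constructor
    · intro h
      exact ⟨y⁻¹ • o, h2 o h, smul_inv_smul y o⟩
    · rintro ⟨o', ho', rfl⟩
      exact h1 o' ho'
  rw [wt, h4, finsum_mem_image (MulAction.injective y).injOn]
  exact finsum_mem_congr rfl h3

/-- `c` is rigid on the orbit -/
def RigOn (K : Type*) {Ω : Type*} [Group K] [MulAction K Ω] (c : Ω → ℕ) (S : Set Ω) : Prop :=
  ∀ y : K, (∀ o ∈ S, c (y • o) = c o) → ∀ o ∈ S, y • o = o

theorem exists_pow (hN : N.index = p) {y : K} (hy : y ∉ N) (q q' : K ⧸ N) : ∃ m : ℕ, (y : K ⧸ N) ^ m * q = q' := by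
  have h1 : (y : K ⧸ N) ≠ 1 := by
    rw [Ne, QuotientGroup.eq_one_iff]
    exact hy
  have h2 : Subgroup.zpowers (y : K ⧸ N) = ⊤ := zpowers_eq_top_of_prime_card (p := p) hN h1
  have h3 : q' * q⁻¹ ∈ Subgroup.zpowers (y : K ⧸ N) := by rw [h2]; trivial
  rw [← mem_powers_iff_mem_zpowers] at h3
  obtain ⟨m, hm⟩ := h3
  exact ⟨m, by simp only at hm; rw [hm, inv_mul_cancel_right]⟩

/-- **The step.** -/
theorem rig_step (hs : stabilizer K x ≤ N) (hN : N.index = p) (c : K ⧸ N → Ω → ℕ)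
    (hr : ∀ q, RigOn N (c q) (blk N x q)) (hne : ∃ q q' : K ⧸ N, wt (c q) (blk N x q) ≠ wt (c q') (blk N x q')) :
    RigOn K (fun o => c (bof N x o) o) (orbit K x) := by
  intro y hy
  have hyo : ∀ q : K ⧸ N, ∀ o ∈ blk N x q, c ((y : K ⧸ N) * q) (y • o) = c q o := by
    intro q o ho
    have h1 := hy o (mem_orbit_iff_blk (N := N).2 ⟨q, ho⟩)
    simp only at h1
    rwa [bof_eq hs ho, bof_eq hs (smul_blk y ho)] at h1
  by_cases hyN : y ∈ N
  · intro o ho
    obtain ⟨q, hq⟩ := mem_orbit_iff_blk (N := N).1 ho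
    have h2 : ((y : K ⧸ N) * q) = q := by rw [(QuotientGroup.eq_one_iff _).2 hyN, one_mul]
    refine hr q ⟨y, hyN⟩ ?_ o hq
    intro o' ho'
    have h3 := hyo q o' ho'
    rwa [h2] at h3
  · exfalso
    have h1 : ∀ q : K ⧸ N, wt (c ((y : K ⧸ N) * q)) (blk N x ((y : K ⧸ N) * q)) = wt (c q) (blk N x q) := by
      intro q
      -- transport
      have h4 : blk N x ((y : K ⧸ N) * q) = (fun o => y • o) '' blk N x q := by
        ext o
        constructor
        · intro h
          refine ⟨y⁻¹ • o, ?_, smul_inv_smul y o⟩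
          have h5 := smul_blk y⁻¹ h
          rwa [QuotientGroup.mk_inv, inv_mul_cancel_left] at h5
        · rintro ⟨o', ho', rfl⟩
          exact smul_blk y ho'
      rw [wt, h4, finsum_mem_image (MulAction.injective y).injOn]
      exact finsum_mem_congr rfl (hyo q)
    have h2 : ∀ m : ℕ, ∀ q : K ⧸ N, wt (c ((y : K ⧸ N) ^ m * q)) (blk N x ((y : K ⧸ N) ^ m * q)) = wt (c q) (blk N x q) := by
      intro m
      induction m with
      | zero => intro q; rw [pow_zero, one_mul]
      | succ m ih =>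
        intro q
        rw [pow_succ, mul_assoc, ih, h1]
    obtain ⟨q, q', hqq⟩ := hne
    obtain ⟨m, hm⟩ := exists_pow hN hyN q q'
    have h3 := h2 m q
    rw [hm] at h3
    exact hqq h3.symm

end step

/-- **Rigid colourings of the orbits of a `p`-group.** -/
theorem gen_col {p : ℕ} [Fact p.Prime] {J : Type*} (W : ℕ → J → ℕ)
    (hW : ∀ s j, ∃ τ : Fin p → J, ∑ i, W s (τ i) = W (s + 1) j ∧ ∃ i i', W s (τ i) ≠ W s (τ i')) :
    ∀ (s : ℕ) (K : Type u) (Ω : Type v) [Group K] [Finite K] [Finite Ω] [MulAction K Ω], PAct p K Ω →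
      ∀ x : Ω, (orbit K x).ncard = p ^ s → ∀ j : J, ∃ c : Ω → ℕ, (∀ o ∈ orbit K x, ∃ j', c o = W 0 j') ∧
        wt c (orbit K x) = W s j ∧ RigOn K c (orbit K x) := by
  intro s
  induction s with
  | zero =>
    intro K Ω _ _ _ _ hP x hx j
    rw [pow_zero, Set.ncard_eq_one] at hx
    obtain ⟨a, ha⟩ := hx
    refine ⟨fun _ => W 0 j, fun _ _ => ⟨j, rfl⟩, ?_, ?_⟩
    · rw [wt, ha, finsum_mem_singleton]
    · intro y _ o ho
      have h1 : y • o ∈ orbit K x := by
        obtain ⟨k, rfl⟩ := ho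
        exact ⟨y * k, mul_smul _ _ _⟩
      rw [ha, Set.mem_singleton_iff] at h1 ho
      rw [h1, ho]
  | succ s ih =>
    intro K Ω _ _ _ _ hP x hx j
    have hp : p.Prime := Fact.out
    have hst : stabilizer K x ≠ ⊤ := by
      intro h
      have h1 : (orbit K x).ncard = 1 := by
        rw [Set.ncard_eq_one]
        refine ⟨x, ?_⟩
        ext o
        constructor
        · rintro ⟨k, rfl⟩
          have : k ∈ stabilizer K x := by rw [h]; trivial
          exact this
        · rintro rfl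
          exact mem_orbit_self _
      rw [h1] at hx
      have h2 : 1 < p ^ (s + 1) := Nat.one_lt_pow (Nat.succ_ne_zero s) hp.one_lt
      omega
    obtain ⟨N, hNn, hNi, hNs⟩ := exists_index hP x hst
    haveI := hNn
    -- sizes of the blocks
    have hsz : ∀ q : K ⧸ N, (blk N x q).ncard = (blk N x 1).ncard := by
      intro q
      induction q using QuotientGroup.induction_on with
      | H k =>
        have h1 : blk N x (k : K ⧸ N) = (fun o => k • o) '' blk N x 1 := by
          ext o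
          constructor
          · rintro ⟨k', hk', rfl⟩
            refine ⟨k⁻¹ • k' • x, ⟨k⁻¹ * k', ?_, mul_smul _ _ _⟩, smul_inv_smul _ _⟩
            rw [QuotientGroup.mk_mul, hk', QuotientGroup.mk_inv, inv_mul_cancel]
          · rintro ⟨o', ⟨k', hk', rfl⟩, rfl⟩
            refine ⟨k * k', ?_, mul_smul _ _ _⟩
            rw [QuotientGroup.mk_mul, hk', mul_one]
        rw [h1, Set.ncard_image_of_injective _ (MulAction.injective k)]
    have hcard : Nat.card (K ⧸ N) = p := hNi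
    haveI : Fintype (K ⧸ N) := Fintype.ofFinite _
    have hsum : (orbit K x).ncard = p * (blk N x (1 : K ⧸ N)).ncard := by
      have h1 := wt_union (N := N) hNs (fun _ _ => 1) (x := x)
      have h2 : ∀ S : Set Ω, wt (fun _ => 1) S = S.ncard := by
        intro S
        rw [wt]
        exact finsum_one
      rw [h2] at h1
      rw [h1, finsum_congr (fun q => (h2 _).trans (hsz q)), finsum_eq_sum_of_fintype, Finset.sum_const, Finset.card_univ,
        ← Nat.card_eq_fintype_card, hcard, smul_eq_mul]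
    have hblk : ∀ q : K ⧸ N, (orbit N (q.out • x)).ncard = p ^ s := by
      intro q
      rw [← blk_eq, hsz q]
      rw [hx, pow_succ'] at hsum
      exact (Nat.eq_of_mul_eq_mul_left hp.pos hsum).symm
    obtain ⟨τ, hτ, i, i', hii⟩ := hW s j
    have e : (K ⧸ N) ≃ Fin p := Finite.equivFinOfCardEq hcard
    have hex : ∀ q : K ⧸ N, ∃ c : Ω → ℕ, (∀ o ∈ orbit N (q.out • x), ∃ j', c o = W 0 j') ∧
        wt c (orbit N (q.out • x)) = W s (τ (e q)) ∧ RigOn N c (orbit N (q.out • x)) :=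
      fun q => ih N Ω (hP.sub N) (q.out • x) (hblk q) (τ (e q))
    choose c hc1 hc2 hc3 using hex
    refine ⟨fun o => c (bof N x o) o, ?_, ?_, ?_⟩
    · intro o ho
      obtain ⟨q, hq⟩ := mem_orbit_iff_blk (N := N).1 ho
      simp only
      rw [bof_eq hNs hq]
      exact hc1 q o (by rw [← blk_eq]; exact hq)
    · rw [wt_union hNs, ← hτ]
      have h1 : ∀ q : K ⧸ N, wt (c q) (blk N x q) = W s (τ (e q)) := by
        intro q
        rw [blk_eq]
        exact hc2 q
      rw [finsum_congr h1, finsum_eq_sum_of_fintype]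
      exact Equiv.sum_comp e (fun i => W s (τ i))
    · apply rig_step hNs hNi
      · intro q
        rw [blk_eq]
        exact hc3 q
      · refine ⟨e.symm i, e.symm i', ?_⟩
        rw [blk_eq, blk_eq, hc2, hc2, Equiv.apply_symm_apply, Equiv.apply_symm_apply]
        exact hii


theorem orbit_pow {K Ω : Type*} [Group K] [Finite K] [MulAction K Ω] {p : ℕ} [Fact p.Prime] (h : PAct p K Ω) (x : Ω) :
    ∃ s : ℕ, (orbit K x).ncard = p ^ s := by
  classical
  set C : Subgroup K := (toPermHom K Ω).ker with hC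
  have hCx : C ≤ stabilizer K x := by
    intro g hg
    rw [hC, MonoidHom.mem_ker] at hg
    rw [mem_stabilizer_iff]
    have := congrArg (fun f : Equiv.Perm Ω => f x) hg
    simpa using this
  have hP : IsPGroup p (K ⧸ C) := by
    intro q
    induction q using QuotientGroup.induction_on with
    | H g =>
      obtain ⟨k, hk⟩ := h g
      refine ⟨k, ?_⟩
      rw [← QuotientGroup.mk_pow, QuotientGroup.eq_one_iff, hC, MonoidHom.mem_ker]
      ext y
      simpa using hk y
  obtain ⟨n, hn⟩ := hP.index ((stabilizer K x).map (QuotientGroup.mk' C))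
  rw [Subgroup.index_map_eq _ (QuotientGroup.mk'_surjective C) (by rw [QuotientGroup.ker_mk']; exact hCx)] at hn
  exact ⟨n, by rw [← index_stabilizer, hn]⟩

/-- the weights for odd `p` -/
def wOdd (p : ℕ) (s : ℕ) (j : Fin 2) : ℕ := (∑ i ∈ Finset.range s, p ^ i) + j

theorem wOdd_step {p : ℕ} (hp : 3 ≤ p) (s : ℕ) (j : Fin 2) :
    ∃ τ : Fin p → Fin 2, ∑ i, wOdd p s (τ i) = wOdd p (s + 1) j ∧ ∃ i i', wOdd p s (τ i) ≠ wOdd p s (τ i') := by
  refine ⟨fun i => if (i : ℕ) < j + 1 then 1 else 0, ?_, ⟨0, by omega⟩, ⟨2, by omega⟩, ?_⟩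
  · have h1 : ∀ i : Fin p, wOdd p s (if (i : ℕ) < j + 1 then 1 else 0) =
        (∑ i ∈ Finset.range s, p ^ i) + if (i : ℕ) < j + 1 then 1 else 0 := by
      intro i
      rw [wOdd]
      congr 1
      split_ifs <;> rfl
    rw [Finset.sum_congr rfl (fun i _ => h1 i), Finset.sum_add_distrib, Finset.sum_const, Finset.card_univ,
      Fintype.card_fin, wOdd, Finset.sum_range_succ', smul_eq_mul, Finset.mul_sum]
    have h2 : ∑ i : Fin p, (if (i : ℕ) < j + 1 then 1 else 0) = (j : ℕ) + 1 := by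
      rw [Fin.sum_univ_eq_sum_range (fun i => if i < (j : ℕ) + 1 then 1 else 0) p, Finset.sum_ite, Finset.sum_const_zero,
        Finset.sum_const, smul_eq_mul, mul_one, add_zero]
      have h3 : Finset.filter (fun x => x < (j : ℕ) + 1) (Finset.range p) = Finset.range (j + 1) := by
        ext x
        simp only [Finset.mem_filter, Finset.mem_range]
        have := j.2
        omega
      rw [h3, Finset.card_range]
    rw [h2]
    have h3 : ∑ i ∈ Finset.range s, p * p ^ i = ∑ i ∈ Finset.range s, p ^ (i + 1) :=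
      Finset.sum_congr rfl (fun i _ => (pow_succ' p i).symm)
    rw [h3, pow_zero]
    ring
  · have := j.2
    simp only [wOdd]
    rw [if_pos (by omega), if_neg (by omega)]
    simp

/-- the weights for `p = 2` -/
def wTwo : ℕ → Fin 3 → ℕ
  | 0 => fun j => j
  | s + 1 => ![wTwo s 0 + wTwo s 1, wTwo s 0 + wTwo s 2, wTwo s 1 + wTwo s 2]

theorem wTwo_lt (s : ℕ) : wTwo s 0 < wTwo s 1 ∧ wTwo s 1 < wTwo s 2 := by
  induction s with
  | zero => decide
  | succ s ih =>
    change wTwo s 0 + wTwo s 1 < wTwo s 0 + wTwo s 2 ∧ wTwo s 0 + wTwo s 2 < wTwo s 1 + wTwo s 2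
    omega

theorem wTwo_step (s : ℕ) (j : Fin 3) :
    ∃ τ : Fin 2 → Fin 3, ∑ i, wTwo s (τ i) = wTwo (s + 1) j ∧ ∃ i i', wTwo s (τ i) ≠ wTwo s (τ i') := by
  have h := wTwo_lt s
  fin_cases j
  · exact ⟨![0, 1], by simp [Fin.sum_univ_two, wTwo], 0, 1, h.1.ne⟩
  · exact ⟨![0, 2], by simp [Fin.sum_univ_two, wTwo], 0, 1, (h.1.trans h.2).ne⟩
  · exact ⟨![1, 2], by simp [Fin.sum_univ_two, wTwo], 0, 1, h.2.ne⟩

/-- **Rigid colourings of a finite set.** -/
theorem rig_glue {p : ℕ} [Fact p.Prime] {J : Type*} (W : ℕ → J → ℕ)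
    (hW : ∀ s j, ∃ τ : Fin p → J, ∑ i, W s (τ i) = W (s + 1) j ∧ ∃ i i', W s (τ i) ≠ W s (τ i'))
    {H I : Type*} [Group H] [Finite H] [Finite I] [MulAction H I] (hP : PAct p H I) (j : J) :
    ∃ κ : I → ℕ, (∀ i, ∃ j', κ i = W 0 j') ∧ (∀ i, ∃ s, (orbit H i).ncard = p ^ s ∧ wt κ (orbit H i) = W s j) ∧
      ∀ (y : H) (i : I), (∀ o ∈ orbit H i, κ (y • o) = κ o) → y • i = i := by
  classical
  have h1 : ∀ ω : orbitRel.Quotient H I, ∃ c : I → ℕ, (∀ o ∈ orbit H (Quotient.out ω), ∃ j', c o = W 0 j') ∧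
      (∃ s, (orbit H (Quotient.out ω)).ncard = p ^ s ∧ wt c (orbit H (Quotient.out ω)) = W s j) ∧
      RigOn H c (orbit H (Quotient.out ω)) := by
    intro ω
    obtain ⟨s, hs⟩ := orbit_pow hP (Quotient.out ω)
    obtain ⟨c, hc1, hc2, hc3⟩ := gen_col W hW s H I hP (Quotient.out ω) hs j
    exact ⟨c, hc1, ⟨s, hs, hc2⟩, hc3⟩
  choose c hc1 hc2 hc3 using h1
  have h2 : ∀ i : I, orbit H (Quotient.out (⟦i⟧ : orbitRel.Quotient H I)) = orbit H i := by
    intro i
    rw [orbit_eq_iff]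
    exact Quotient.mk_out (s := orbitRel H I) i
  have h3 : ∀ i, i ∈ orbit H (Quotient.out (⟦i⟧ : orbitRel.Quotient H I)) := by
    intro i
    rw [h2]
    exact mem_orbit_self i
  have h4 : ∀ i i' : I, i' ∈ orbit H i → (⟦i'⟧ : orbitRel.Quotient H I) = ⟦i⟧ := fun i i' h => Quotient.sound h
  refine ⟨fun i => c ⟦i⟧ i, fun i => hc1 ⟦i⟧ i (h3 i), ?_, ?_⟩
  · intro i
    obtain ⟨s, hs1, hs2⟩ := hc2 ⟦i⟧
    rw [h2] at hs1 hs2
    refine ⟨s, hs1, ?_⟩
    rw [← hs2, wt, wt]
    apply finsum_mem_congr rfl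
    intro o ho
    rw [h4 i o ho]
  · intro y i hy
    apply hc3 ⟦i⟧ y ?_ i (h3 i)
    intro o ho
    rw [h2] at ho
    have h5 := hy o ho
    have h6 : y • o ∈ orbit H i := by
      obtain ⟨g, rfl⟩ := ho
      exact ⟨y * g, mul_smul _ _ _⟩
    simp only at h5
    rwa [h4 i _ h6, h4 i _ ho] at h5

theorem sum_smul {H I : Type*} [Group H] [Fintype H] [Finite I] [MulAction H I] (κ : I → ℕ) (i : I) :
    (orbit H i).ncard * ∑ t : H, κ (t • i) = Nat.card H * wt κ (orbit H i) := by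
  classical
  haveI : Fintype I := Fintype.ofFinite I
  set S : ℕ := (Finset.univ.filter fun t : H => t • i = i).card with hS
  have h1 : ∀ o ∈ (orbit H i).toFinset, (Finset.univ.filter fun t : H => t • i = o).card = S := by
    intro o ho
    rw [Set.mem_toFinset] at ho
    obtain ⟨g, rfl⟩ := ho
    refine Finset.card_bij' (fun t _ => g⁻¹ * t) (fun t _ => g * t) ?_ ?_ ?_ ?_
    · intro t ht
      simp only [Finset.mem_filter, Finset.mem_univ, true_and] at ht ⊢
      rw [mul_smul, ht]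
      exact inv_smul_smul g i
    · intro t ht
      simp only [Finset.mem_filter, Finset.mem_univ, true_and] at ht ⊢
      rw [mul_smul, ht]
    · intro t _
      exact mul_inv_cancel_left g t
    · intro t _
      exact inv_mul_cancel_left g t
  have h2 : ∀ κ : I → ℕ, ∑ t : H, κ (t • i) = S * wt κ (orbit H i) := by
    intro κ
    have h3 : ∑ t : H, κ (t • i) = ∑ o ∈ (orbit H i).toFinset, ∑ t ∈ Finset.univ.filter (fun t : H => t • i = o), κ (t • i) := by
      refine (Finset.sum_fiberwise_of_maps_to ?_ _).symm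
      intro t _
      rw [Set.mem_toFinset]
      exact mem_orbit i t
    rw [h3, wt, finsum_mem_eq_toFinset_sum, Finset.mul_sum]
    apply Finset.sum_congr rfl
    intro o ho
    rw [← h1 o ho, ← smul_eq_mul, ← Finset.sum_const]
    apply Finset.sum_congr rfl
    intro t ht
    rw [(Finset.mem_filter.1 ht).2]
  have h4 := h2 (fun _ => 1)
  rw [Finset.sum_const, Finset.card_univ, smul_eq_mul, mul_one, ← Nat.card_eq_fintype_card, wt, finsum_one] at h4
  rw [h2 κ, h4]
  ring

/-- **Odd `p`**: a rigid colouring with colours `0, 1` and the average of the colour `1`. -/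
theorem exists_odd {p : ℕ} [Fact p.Prime] (hp : 3 ≤ p) {H I : Type*} [Group H] [Fintype H] [Finite I] [MulAction H I]
    (hP : PAct p H I) : ∃ κ : I → ℕ, (∀ i, κ i < 2) ∧
      (∀ (y : H) (i : I), (∀ o ∈ orbit H i, κ (y • o) = κ o) → y • i = i) ∧
      ∀ i : I, (p - 1) * ∑ t : H, κ (t • i) ≤ Nat.card H := by
  obtain ⟨κ, h1, h2, h3⟩ := rig_glue (wOdd p) (wOdd_step hp) hP 0
  refine ⟨κ, ?_, h3, ?_⟩
  · intro i
    obtain ⟨j, hj⟩ := h1 i
    rw [hj, wOdd, Finset.range_zero, Finset.sum_empty, zero_add]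
    exact j.2
  · intro i
    obtain ⟨s, hs1, hs2⟩ := h2 i
    have h4 := sum_smul (H := H) κ i
    rw [hs1, hs2] at h4
    have h5 : wOdd p s 0 = ∑ i ∈ Finset.range s, p ^ i := by rw [wOdd]; rfl
    have h6 : (p - 1) * ∑ i ∈ Finset.range s, p ^ i = p ^ s - 1 := by
      have h61 : ∀ s : ℕ, (p - 1) * ∑ i ∈ Finset.range s, p ^ i + 1 = p ^ s := by
        intro s
        induction s with
        | zero => simp
        | succ s ih =>
          obtain ⟨q, rfl⟩ : ∃ q, p = q + 1 := ⟨p - 1, by omega⟩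
          rw [Nat.add_sub_cancel] at ih ⊢
          rw [Finset.sum_range_succ, mul_add, pow_succ]
          nlinarith
      have := h61 s
      omega
    have h7 : 0 < p ^ s := pow_pos (by omega) s
    have h8 : p ^ s * ((p - 1) * ∑ t : H, κ (t • i)) = Nat.card H * (p ^ s - 1) := by
      rw [← h6, ← h5]
      calc p ^ s * ((p - 1) * ∑ t : H, κ (t • i)) = (p - 1) * (p ^ s * ∑ t : H, κ (t • i)) := by ring
        _ = _ := by rw [h4]; ring
    have h9 : p ^ s * ((p - 1) * ∑ t : H, κ (t • i)) ≤ p ^ s * Nat.card H := by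
      rw [h8, mul_comm (p ^ s)]
      exact Nat.mul_le_mul_left _ (Nat.sub_le _ _)
    exact Nat.le_of_mul_le_mul_left h9 h7

/-- **`p = 2`**: a rigid colouring with colours `0, 1, 2`. -/
theorem exists_two {H I : Type*} [Group H] [Finite H] [Finite I] [MulAction H I] (hP : PAct 2 H I) :
    ∃ κ : I → ℕ, (∀ i, κ i < 3) ∧ (∀ (y : H) (i : I), (∀ o ∈ orbit H i, κ (y • o) = κ o) → y • i = i) := by
  haveI : Fact (Nat.Prime 2) := ⟨Nat.prime_two⟩
  obtain ⟨κ, h1, -, h3⟩ := rig_glue wTwo wTwo_step hP 0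
  refine ⟨κ, ?_, h3⟩
  intro i
  obtain ⟨j, hj⟩ := h1 i
  rw [hj]
  exact j.2

end Cfsg.Agent.H478.RC
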