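import Mathlib
import Cfsg.Agent.H527.RC.Defs

/-!
# Fitting height at most `t` (S4191)
-/

set_option autoImplicit false
set_option linter.unusedSectionVars false
set_option linter.style.haveILetI false

namespace Cfsg.Agent.H478.RC

open Cfsg.Agent.H527.RC

universe u

theorem nil_of_injective {G G' : Type*} [Group G] [Group G'] [Group.IsNilpotent G'] (f : G →* G')
    (hf : Function.Injective f) : Group.IsNilpotent G :=
  Subgroup.isNilpotent_of_ker_le_center f (by rw [(MonoidHom.ker_eq_bot_iff f).2 hf]; exact bot_le)

theorem FH.of_injective : ∀ (t : ℕ) {G G' : Type u} [Group G] [Group G'] (f : G →* G'), Function.Injective f →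
    FH t G' → FH t G
  | 0, G, G', _, _, f, hf, h => by
    haveI : Subsingleton G' := h
    exact hf.subsingleton
  | t + 1, G, G', _, _, f, hf, h => by
    obtain ⟨N', hN', hn, hq⟩ := h
    haveI := hN'
    refine ⟨N'.comap f, inferInstance, ?_, ?_⟩
    · haveI := hn
      exact nil_of_injective (f.subgroupComap N') (by
        intro a b hab
        apply Subtype.ext
        apply hf
        exact congrArg Subtype.val hab)
    · refine FH.of_injective t (QuotientGroup.map (N'.comap f) N' f le_rfl) ?_ hq
      rw [← MonoidHom.ker_eq_bot_iff, eq_bot_iff]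
      intro q hq
      induction q using QuotientGroup.induction_on with
      | H g =>
        rw [MonoidHom.mem_ker, QuotientGroup.map_mk, QuotientGroup.eq_one_iff] at hq
        rw [Subgroup.mem_bot, QuotientGroup.eq_one_iff]
        exact hq

theorem FH.of_surjective : ∀ (t : ℕ) {G G' : Type u} [Group G] [Group G'] (f : G →* G'), Function.Surjective f →
    FH t G → FH t G'
  | 0, G, G', _, _, f, hf, h => by
    haveI : Subsingleton G := h
    exact hf.subsingleton
  | t + 1, G, G', _, _, f, hf, h => by
    obtain ⟨N, hN, hn, hq⟩ := h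
    haveI := hN
    haveI h1 : (N.map f).Normal := hN.map f hf
    refine ⟨N.map f, h1, ?_, ?_⟩
    · haveI := hn
      exact Group.nilpotent_of_surjective (f.subgroupMap N) (f.subgroupMap_surjective N)
    · refine FH.of_surjective t (QuotientGroup.map N (N.map f) f (Subgroup.le_comap_map f N)) ?_ hq
      intro q
      induction q using QuotientGroup.induction_on with
      | H g =>
        obtain ⟨a, rfl⟩ := hf g
        exact ⟨a, rfl⟩

theorem FH.succ : ∀ (t : ℕ) {G : Type u} [Group G], FH t G → FH (t + 1) G
  | 0, G, _, h => by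
    haveI : Subsingleton G := h
    refine ⟨⊤, inferInstance, inferInstance, ?_⟩
    exact (QuotientGroup.mk'_surjective (⊤ : Subgroup G)).subsingleton
  | t + 1, G, _, h => by
    obtain ⟨N, hN, hn, hq⟩ := h
    exact ⟨N, hN, hn, FH.succ t hq⟩

theorem FH.mono {s t : ℕ} (hst : s ≤ t) {G : Type u} [Group G] (h : FH s G) : FH t G := by
  induction hst with
  | refl => exact h
  | step _ ih => exact FH.succ _ ih

theorem FH.pi : ∀ (t : ℕ) {I : Type u} [Finite I] (G : I → Type u) [∀ i, Group (G i)], (∀ i, FH t (G i)) →
    FH t (∀ i, G i)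
  | 0, I, _, G, _, h => by
    haveI : ∀ i, Subsingleton (G i) := h
    change Subsingleton (∀ i, G i)
    infer_instance
  | t + 1, I, _, G, _, h => by
    choose N hN hn hq using h
    haveI := hN
    let f : (∀ i, G i) →* (∀ i, G i ⧸ N i) := MonoidHom.pi (fun i => (QuotientGroup.mk' (N i)).comp (Pi.evalMonoidHom G i))
    refine ⟨f.ker, inferInstance, ?_, ?_⟩
    · haveI := hn
      have h1 : ∀ (g : f.ker) (i : I), (g : ∀ i, G i) i ∈ N i := by
        intro g i
        have h2 := g.2
        rw [MonoidHom.mem_ker] at h2
        have h3 := congrFun h2 i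
        rw [← QuotientGroup.eq_one_iff]
        exact h3
      let g : f.ker →* (∀ i, N i) :=
        { toFun := fun g i => ⟨(g : ∀ i, G i) i, h1 g i⟩
          map_one' := rfl
          map_mul' := fun _ _ => rfl }
      exact nil_of_injective g (by
        intro a b hab
        apply Subtype.ext
        funext i
        exact congrArg Subtype.val (congrFun hab i))
    · exact FH.of_injective t (QuotientGroup.kerLift f) (QuotientGroup.kerLift_injective f) (FH.pi t _ hq)

/-- subdirect products -/
theorem FH.subdirect {t : ℕ} {I : Type u} [Finite I] {G : Type u} [Group G] {G' : I → Type u} [∀ i, Group (G' i)]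
    (f : ∀ i, G →* G' i) (hf : ∀ g : G, (∀ i, f i g = 1) → g = 1) (h : ∀ i, FH t (f i).range) : FH t G := by
  let F : G →* (∀ i, (f i).range) := MonoidHom.pi (fun i => (f i).rangeRestrict)
  refine FH.of_injective t F ?_ (FH.pi t _ h)
  rw [← MonoidHom.ker_eq_bot_iff, eq_bot_iff]
  intro g hg
  rw [MonoidHom.mem_ker] at hg
  rw [Subgroup.mem_bot]
  apply hf
  intro i
  have h1 := congrFun hg i
  exact congrArg Subtype.val h1

theorem FH.subgroup {t : ℕ} {G : Type u} [Group G] {A B : Subgroup G} (h : A ≤ B) (hB : FH t B) : FH t A :=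
  FH.of_injective t (Subgroup.inclusion h) (Subgroup.inclusion_injective h) hB

end Cfsg.Agent.H478.RC
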