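import Mathlib
import Cfsg.Agent.H478.RC.Mod

/-!
# The group of twisted automorphisms of a simple submodule (S4191, piece `lin_of_core`)
-/

set_option autoImplicit false
set_option linter.unusedSectionVars false
set_option linter.style.haveILetI false

namespace Cfsg.Agent.H478.RC

open Cfsg.Agent.H527.RC Cfsg.Agent.Omega.EH3.Clif

universe u

variable {H V : Type u} [Group H] [AddCommGroup V] [DistribMulAction H V] {L : Subgroup H}
  (U : Submodule (RL V L) V)

/-- the additive automorphisms of `U` -/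
abbrev AU (U : Submodule (RL V L) V) : Type u := U ≃ₗ[ℤ] U

/-- `φ` is twisted by `h` -/
def Tw (h : H) (φ : AU U) : Prop :=
  ∀ l (hl : l ∈ L) (u : U), ((φ ((lr l hl : RL V L) • u) : U) : V) = (h * l * h⁻¹) • ((φ u : U) : V)

theorem Tw.one : Tw U 1 1 := by
  intro l hl u
  rw [one_mul, inv_one, mul_one]
  rfl

variable {U}

theorem Tw.mul [hL : L.Normal] {h h' : H} {φ φ' : AU U} (a : Tw U h φ) (b : Tw U h' φ') : Tw U (h * h') (φ * φ') := by
  intro l hl u
  have h1 : h' * l * h'⁻¹ ∈ L := hL.conj_mem l hl h'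
  have h2 : φ' ((lr l hl : RL V L) • u) = (lr _ h1 : RL V L) • φ' u := Subtype.ext (b l hl u)
  rw [LinearEquiv.mul_apply, h2, a _ h1, LinearEquiv.mul_apply]
  congr 1
  group

theorem Tw.inv [hL : L.Normal] {h : H} {φ : AU U} (a : Tw U h φ) : Tw U h⁻¹ φ⁻¹ := by
  intro l hl u
  have h1 : h⁻¹ * l * h⁻¹⁻¹ ∈ L := hL.conj_mem l hl h⁻¹
  have h2 : φ⁻¹ ((lr l hl : RL V L) • u) = (lr _ h1 : RL V L) • φ⁻¹ u := by
    apply φ.injective
    apply Subtype.ext
    rw [a _ h1]
    have h3 : φ (φ⁻¹ ((lr l hl : RL V L) • u)) = (lr l hl : RL V L) • u := φ.apply_symm_apply _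
    have h4 : φ (φ⁻¹ u) = u := φ.apply_symm_apply _
    rw [h3, h4, coe_lr_smul]
    congr 1
    group
  rw [h2]
  rfl

variable (U)

/-- the group of pairs -/
def Gh [L.Normal] : Subgroup (H × AU U) where
  carrier := {x | Tw U x.1 x.2}
  one_mem' := Tw.one U
  mul_mem' a b := Tw.mul a b
  inv_mem' a := Tw.inv a

/-- the group of the twisted automorphisms -/
def Gam [L.Normal] : Subgroup (AU U) := (Gh U).map (MonoidHom.snd H (AU U))

variable {U}

theorem mem_Gam [L.Normal] {φ : AU U} : φ ∈ Gam U ↔ ∃ h : H, Tw U h φ := by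
  constructor
  · rintro ⟨⟨h, φ'⟩, h1, rfl⟩
    exact ⟨h, h1⟩
  · rintro ⟨h, h1⟩
    exact ⟨⟨h, φ⟩, h1, rfl⟩

variable (U) in
/-- `L` acting on `U` -/
def rho : L →* AU U where
  toFun l := AddEquiv.toIntLinearEquiv
    { toFun := fun u => (lr (l : H) l.2 : RL V L) • u
      invFun := fun u => (lr (l : H)⁻¹ (L.inv_mem l.2) : RL V L) • u
      left_inv := fun u => Subtype.ext (inv_smul_smul (l : H) (u : V))
      right_inv := fun u => Subtype.ext (smul_inv_smul (l : H) (u : V))
      map_add' := fun u v => smul_add _ u v }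
  map_one' := by
    ext u
    exact one_smul H (u : V)
  map_mul' l l' := by
    ext u
    exact mul_smul (l : H) (l' : H) (u : V)

theorem rho_apply (l : L) (u : U) : ((rho U l u : U) : V) = (l : H) • (u : V) := rfl

theorem tw_rho (l : L) : Tw U l (rho U l) := by
  intro l' hl' u
  rw [rho_apply, rho_apply, coe_lr_smul, ← mul_smul, ← mul_smul]
  congr 1
  group

theorem rho_mem [L.Normal] (l : L) : rho U l ∈ Gam U := mem_Gam.2 ⟨l, tw_rho l⟩

theorem Tw.conj [hL : L.Normal] {h : H} {φ : AU U} (a : Tw U h φ) (l : L) :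
    φ * rho U l = rho U ⟨h * l * h⁻¹, hL.conj_mem l l.2 h⟩ * φ := by
  ext u
  exact a l l.2 u

theorem Tw.comm [hL : L.Normal] {φ : AU U} (a : Tw U 1 φ) (l : L) : φ * rho U l = rho U l * φ := by
  rw [a.conj]
  congr 2
  apply Subtype.ext
  simp

/-- twisted by `1`: linear -/
def Tw.lin {φ : AU U} (a : Tw U 1 φ) : U →ₗ[RL V L] U where
  toFun := φ
  map_add' := map_add φ
  map_smul' r u := by
    apply Subtype.ext
    exact linear_of U (U.subtype.toAddMonoidHom.comp φ.toLinearMap.toAddMonoidHom) (by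
      intro l hl m
      have h1 := a l hl m
      rw [one_mul, inv_one, mul_one] at h1
      exact h1) r u

theorem Tw.commute [Finite V] (hU : IsSimpleModule (RL V L) U) {φ ψ : AU U} (a : Tw U 1 φ) (b : Tw U 1 ψ) :
    φ * ψ = ψ * φ := by
  classical
  haveI := hU
  haveI : Finite (U →ₗ[RL V L] U) := Finite.of_injective (fun f => (f : U → U)) DFunLike.coe_injective
  haveI : Finite (Module.End (RL V L) U) := this
  letI : DivisionRing (Module.End (RL V L) U) := Module.End.instDivisionRing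
  haveI h0 : IsDomain (Module.End (RL V L) U) := DivisionRing.isDomain
  have h1 := (Finite.isDomain_to_isField (Module.End (RL V L) U)).mul_comm a.lin b.lin
  ext u
  have h2 := congrArg (fun f : Module.End (RL V L) U => ((f u : U) : V)) h1
  exact h2

instance [Finite V] : Finite (AU U) := Finite.of_injective (fun f => (f : U → U)) DFunLike.coe_injective

theorem solvable_Gam [Finite V] [L.Normal] [hH : Group.IsSolvable H] (hU : IsSimpleModule (RL V L) U) :
    Group.IsSolvable (Gam U) := by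
  have h1 : Group.IsSolvable (Gh U) := by
    let f : Gh U →* H := (MonoidHom.fst H (AU U)).comp (Gh U).subtype
    haveI : Group.IsSolvable f.ker := by
      apply Group.isSolvable_of_comm
      intro a b
      apply Subtype.ext
      apply Subtype.ext
      have ha : ((a : Gh U) : H × AU U).1 = 1 := a.2
      have hb : ((b : Gh U) : H × AU U).1 = 1 := b.2
      have ha2 : Tw U 1 ((a : Gh U) : H × AU U).2 := by
        rw [← ha]
        exact (a : Gh U).2
      have hb2 : Tw U 1 ((b : Gh U) : H × AU U).2 := by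
        rw [← hb]
        exact (b : Gh U).2
      apply Prod.ext
      · change ((a : Gh U) : H × AU U).1 * ((b : Gh U) : H × AU U).1 =
          ((b : Gh U) : H × AU U).1 * ((a : Gh U) : H × AU U).1
        rw [ha, hb]
      · exact ha2.commute hU hb2
    exact Group.isSolvable_of_ker_le_range f.ker.subtype f (by rw [Subgroup.range_subtype])
  haveI := h1
  exact Group.isSolvable_of_surjective ((MonoidHom.snd H (AU U)).subgroupMap_surjective (Gh U))

variable (U) in
/-- the normal `p`-complement of `Gam U` -/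
def Lt [Finite V] [L.Normal] (p : ℕ) [Fact p.Prime] (hU : IsSimpleModule (RL V L) U) : Subgroup (Gam U) where
  carrier := {γ | ∃ (l : L) (ε : AU U), Tw U 1 ε ∧ ¬ p ∣ orderOf ε ∧ (γ : AU U) = rho U l * ε}
  one_mem' := by
    refine ⟨1, 1, Tw.one U, ?_, by simp⟩
    rw [orderOf_one]
    exact (Fact.out : p.Prime).one_lt.ne' ∘ Nat.dvd_one.1
  mul_mem' := by
    rintro a b ⟨l, ε, h1, h2, h3⟩ ⟨l', ε', h1', h2', h3'⟩
    refine ⟨l * l', ε * ε', by simpa using h1.mul h1', ?_, ?_⟩
    · intro hd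
      have h4 : Commute ε ε' := h1.commute hU h1'
      have h5 := hd.trans h4.orderOf_mul_dvd_mul_orderOf
      rcases ((Fact.out : p.Prime).dvd_mul).1 h5 with h | h
      · exact h2 h
      · exact h2' h
    · rw [Subgroup.coe_mul, h3, h3', map_mul, mul_assoc, ← mul_assoc ε, h1.comm, mul_assoc, mul_assoc]
  inv_mem' := by
    rintro a ⟨l, ε, h1, h2, h3⟩
    refine ⟨l⁻¹, ε⁻¹, by simpa using h1.inv, by rwa [orderOf_inv], ?_⟩
    rw [Subgroup.coe_inv, h3, mul_inv_rev, map_inv]
    have h4 : Commute ε (rho U l) := h1.comm l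
    exact h4.inv_left.inv_right.eq

theorem mem_Lt [Finite V] [L.Normal] {p : ℕ} [Fact p.Prime] {hU : IsSimpleModule (RL V L) U} {γ : Gam U} :
    γ ∈ Lt U p hU ↔ ∃ (l : L) (ε : AU U), Tw U 1 ε ∧ ¬ p ∣ orderOf ε ∧ (γ : AU U) = rho U l * ε := Iff.rfl

theorem rho_mem_Lt [Finite V] [L.Normal] {p : ℕ} [Fact p.Prime] (hU : IsSimpleModule (RL V L) U) (l : L) :
    (⟨rho U l, rho_mem l⟩ : Gam U) ∈ Lt U p hU := by
  refine mem_Lt.2 ⟨l, 1, Tw.one U, ?_, by simp⟩
  rw [orderOf_one]
  exact (Fact.out : p.Prime).one_lt.ne' ∘ Nat.dvd_one.1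

theorem lp_Lt [Finite V] [Finite H] {p : ℕ} [Fact p.Prime] (hLP : LP p L) [hLn : L.Normal]
    (hU : IsSimpleModule (RL V L) U) : LP p (Lt U p hU) where
  normal := by
    constructor
    rintro a ⟨l, ε, h1, h2, h3⟩ g
    obtain ⟨h, hh⟩ := mem_Gam.1 g.2
    have h4 : Tw U 1 ((g : AU U) * ε * (g : AU U)⁻¹) := by
      have := (hh.mul h1).mul hh.inv
      simpa using this
    refine ⟨⟨h * l * h⁻¹, hLn.conj_mem l l.2 h⟩, (g : AU U) * ε * (g : AU U)⁻¹, h4, ?_, ?_⟩
    · have : orderOf ((g : AU U) * ε * (g : AU U)⁻¹) = orderOf ε := by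
        have h5 : SemiconjBy (g : AU U) ε ((g : AU U) * ε * (g : AU U)⁻¹) := by
          rw [SemiconjBy, inv_mul_cancel_right]
        exact (h5.orderOf_eq).symm
      rwa [this]
    · change (g : AU U) * (a : AU U) * (g : AU U)⁻¹ = _
      rw [h3, ← mul_assoc (g : AU U), hh.conj]
      group
  cop := by
    intro hd
    obtain ⟨x, hx⟩ := exists_prime_orderOf_dvd_card' p hd
    obtain ⟨l, ε, h1, h2, h3⟩ := x.2
    have h4 : Commute (rho U l) ε := (h1.comm l).symm
    have h5 : orderOf (x : Gam U) = p := (Subgroup.orderOf_coe x).trans hx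
    have h6 : orderOf ((x : Gam U) : AU U) = p := (Subgroup.orderOf_coe (x : Gam U)).trans h5
    rw [h3] at h6
    have h7 : p ∣ orderOf (rho U l) * orderOf ε := by
      rw [← h6]
      exact h4.orderOf_mul_dvd_mul_orderOf
    rcases ((Fact.out : p.Prime).dvd_mul).1 h7 with h | h
    · exact hLP.cop ((h.trans (orderOf_map_dvd (rho U) l)).trans (orderOf_dvd_natCard l))
    · exact h2 h
  isP := by
    intro g
    obtain ⟨h, hh⟩ := mem_Gam.1 g.2
    obtain ⟨k, hk⟩ := hLP.isP h
    have h1 : ∀ n : ℕ, Tw U (h ^ n) ((g : AU U) ^ n) := by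
      intro n
      induction n with
      | zero => simpa using Tw.one U
      | succ n ih =>
        rw [pow_succ, pow_succ]
        exact ih.mul hh
    set l : L := ⟨h ^ p ^ k, hk⟩ with hl
    set ε : AU U := (rho U l)⁻¹ * (g : AU U) ^ p ^ k with hε
    have h2 : Tw U 1 ε := by
      have := (tw_rho (U := U) l).inv.mul (h1 (p ^ k))
      have h3 : ((l : H))⁻¹ * h ^ p ^ k = 1 := by
        rw [hl]
        exact inv_mul_cancel _
      rwa [h3] at this
    have h3 : (g : AU U) ^ p ^ k = rho U l * ε := by rw [hε, mul_inv_cancel_left]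
    have h4 : Commute (rho U l) ε := (h2.comm l).symm
    obtain ⟨a, m, hm, ham⟩ := Nat.exists_eq_pow_mul_and_not_dvd (orderOf_pos ε).ne' p (Fact.out : p.Prime).ne_one
    refine ⟨k + a, l ^ p ^ a, ε ^ p ^ a, ?_, ?_, ?_⟩
    · have h5 : ∀ n : ℕ, Tw U 1 (ε ^ n) := by
        intro n
        induction n with
        | zero => simpa using Tw.one U
        | succ n ih =>
          rw [pow_succ]
          simpa using ih.mul h2
      exact h5 _
    · have h6 : orderOf (ε ^ p ^ a) = m := by
        rw [orderOf_pow_of_dvd (pow_ne_zero _ (Fact.out : p.Prime).ne_zero) (by rw [ham]; exact dvd_mul_right _ _), ham,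
          Nat.mul_div_cancel_left _ (pow_pos (Fact.out : p.Prime).pos a)]
      rwa [h6]
    · rw [Subgroup.coe_pow, pow_add, pow_mul, h3, h4.mul_pow, map_pow]

end Cfsg.Agent.H478.RC
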