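import Mathlib
import Cfsg.Agent.H478.RC.LinCore

/-!
# The linear theorem `Lin` from `Core` and `Rat` (S4191)
-/

set_option autoImplicit false
set_option linter.unusedSectionVars false
set_option linter.style.haveILetI false

namespace Cfsg.Agent.H478.RC

open Cfsg.Agent.H527.RC Cfsg.Agent.Omega.EH3.Clif MulAction
open scoped commutatorElement

universe u

theorem rat_trivial (p : ℕ) : Cfsg.Agent.H527.RC.Rat.{u} p 1 1 := by
  intro P V _ _ _ _ _ _ _ _
  refine ⟨0, Nat.mul_le_mul_left 1 ?_⟩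
  exact (Nat.factorization_le_iff_dvd Nat.card_pos.ne' Nat.card_pos.ne').2 (Subgroup.card_subgroup_dvd_card _) p

section

variable {H V : Type u} [Group H] [AddCommGroup V] [DistribMulAction H V] {L B : Subgroup H}

theorem stab_le [Finite V] [L.Normal] {p t q : ℕ} [Fact p.Prime] {Z : Set ℕ} (D : Dat V L p t q Z)
    (hBL : ∀ x ∈ B, ∀ y ∈ L, x * y = y * x) (κ : CI V L → ℕ) :
    stabilizer B (D.vec κ) ≤ ⨅ c ∈ {c | κ c ∉ Z}, St B (D.f c) := by
  intro b hb
  rw [mem_stabilizer_iff] at hb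
  rw [Subgroup.mem_iInf]
  intro c
  rw [Subgroup.mem_iInf]
  intro hc w
  exact D.stab_vec (fun l hl => hBL b b.2 l hl) hb hc w

theorem rg_smul [Finite V] [L.Normal] {κ : CI V L → ℕ}
    (h : ∀ (y : H) (c : CI V L), (∀ o ∈ orbit H c, κ (y • o) = κ o) → y • c = c) (s : H) :
    Rg H (fun c : CI V L => κ (s • c)) := by
  intro y c hy
  have h1 : (s * y * s⁻¹) • (s • c) = s • c := by
    apply h
    intro o ho
    have h2 : s⁻¹ • o ∈ orbit H c := by
      obtain ⟨g, rfl⟩ := ho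
      exact ⟨s⁻¹ * g * s, by simp only [mul_smul]⟩
    have h3 := hy _ h2
    simp only [smul_inv_smul] at h3
    rw [mul_smul, mul_smul]
    exact h3
  rw [mul_smul, mul_smul, inv_smul_smul] at h1
  exact MulAction.injective s h1

end

/-- the numerical form for odd `p` -/
theorem lin_odd {p t m k a b : ℕ} [Fact p.Prime] (hp3 : 3 ≤ p) (hmt : m ≤ t) (hk : 2 ≤ k) (hcore : Core.{u} p t m k)
    (hRat : Cfsg.Agent.H527.RC.Rat.{u} p a b)
    (H V : Type u) [Group H] [Finite H] [Group.IsSolvable H] [AddCommGroup V] [Finite V] [DistribMulAction H V]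
    (L B : Subgroup H) (hLP : LP p L) (hpV : ¬ p ∣ Nat.card V) (hf : ∀ h : H, (∀ v : V, h • v = v) → h = 1)
    (hcr : ∀ X : AddSubgroup V, (∀ h : H, ∀ x ∈ X, h • x ∈ X) →
      ∃ Y : AddSubgroup V, (∀ h : H, ∀ y ∈ Y, h • y ∈ Y) ∧ X ⊓ Y = ⊥ ∧ X ⊔ Y = ⊤)
    (hBp : IsPGroup p B) (hBL : ∀ x ∈ B, ∀ y ∈ L, x * y = y * x) :
    ∃ v : V, Gd p t L v ∧ ∃ x g : ℕ, b * x ≤ a * (Nat.card B).factorization p ∧
      (Nat.card B).factorization p = x + g ∧
      (p - 2) * g + (p - 1) * (Nat.card (stabilizer B v)).factorization p ≤ (p - 1) * (Nat.card B).factorization p := by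
  classical
  haveI hLn : L.Normal := hLP.normal
  haveI : Fintype H := Fintype.ofFinite H
  have hss := semisimple (L := L) hcr
  obtain ⟨D, hD⟩ := exists_dat (q := 2) (Z := {1}) (t := t)
    (fun U hU => lab_odd U hU hmt hk (core_app hcore hLP hpV hU)) hRat hBp hBL hpV hf hss
  obtain ⟨κ, hκ1, hκ2, hκ3⟩ := exists_odd hp3 (pact (V := V) hLP)
  set S : CI V L → Subgroup B := fun c => St B (D.f c) with hS
  set n := (Nat.card B).factorization p with hn
  set gI := (⨅ c, S c).index.factorization p with hgI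
  -- the sets
  let A : H → Set (CI V L) := fun s => {c | κ (s • c) ∉ ({1} : Set ℕ)}
  set m0 := Nat.card H - Nat.card H / (p - 1) with hm0
  have hcov : ∀ c, m0 ≤ Nat.card {s : H // c ∈ A s} := by
    intro c
    have h1 : ∑ s : H, κ (s • c) ≤ Nat.card H / (p - 1) := by
      rw [Nat.le_div_iff_mul_le (by omega), mul_comm]
      exact hκ3 c
    have h2 : Nat.card H = ∑ s : H, κ (s • c) + Nat.card {s : H // c ∈ A s} := by
      rw [Nat.card_eq_fintype_card, Nat.card_eq_fintype_card, Fintype.card_subtype, Finset.card_filter, ← Finset.sum_add_distrib,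
        ← Finset.card_univ, Finset.card_eq_sum_ones]
      apply Finset.sum_congr rfl
      intro s _
      have h3 := hκ1 (s • c)
      have h4 : κ (s • c) = 0 ∨ κ (s • c) = 1 := by omega
      rcases h4 with h4 | h4
      · have h5 : c ∈ A s := by
          change κ (s • c) ∉ ({1} : Set ℕ)
          rw [h4]
          simp
        rw [if_pos h5]
        omega
      · have h5 : c ∉ A s := by
          change ¬ κ (s • c) ∉ ({1} : Set ℕ)
          rw [h4]
          simp
        rw [if_neg h5]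
        omega
    omega
  have hsh := shearer hBp S A m0 hcov
  -- a good translate
  obtain ⟨s, hs⟩ : ∃ s : H, m0 * gI ≤ Nat.card H * (⨅ c ∈ A s, S c).index.factorization p := by
    by_contra hcon
    push Not at hcon
    have h1 : ∑ s : H, Nat.card H * (⨅ c ∈ A s, S c).index.factorization p < ∑ _s : H, m0 * gI :=
      Finset.sum_lt_sum_of_nonempty ⟨1, Finset.mem_univ _⟩ (fun s _ => hcon s)
    rw [← Finset.mul_sum, Finset.sum_const, Finset.card_univ, ← Nat.card_eq_fintype_card, smul_eq_mul] at h1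
    have h2 := Nat.lt_of_mul_lt_mul_left h1
    exact absurd hsh (not_le.2 h2)
  refine ⟨D.vec (fun c => κ (s • c)), ?_, (Nat.card (⨅ c, S c : Subgroup B)).factorization p, gI, hD, nu_add _, ?_⟩
  · exact D.gd_vec hss hf (fun c => hκ1 _) (rg_smul hκ2 s)
  · have h1 := nu_add (B := B) (p := p) (⨅ c ∈ A s, S c)
    have h2 := nu_le_of_le (p := p) (stab_le D hBL (fun c => κ (s • c)))
    have h3 : (p - 2) * gI ≤ (p - 1) * (⨅ c ∈ A s, S c).index.factorization p := by
      have h4 : (p - 2) * Nat.card H ≤ (p - 1) * m0 := by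
        rw [hm0, Nat.mul_sub]
        have h5 : (p - 1) * (Nat.card H / (p - 1)) ≤ Nat.card H := Nat.mul_div_le _ _
        have h6 : (p - 2) * Nat.card H + Nat.card H = (p - 1) * Nat.card H := by
          obtain ⟨r, rfl⟩ : ∃ r, p = r + 2 := ⟨p - 2, by omega⟩
          simp only [Nat.add_sub_cancel]
          have : r + 2 - 1 = r + 1 := by omega
          rw [this]
          ring
        omega
      have h7 : Nat.card H * ((p - 2) * gI) ≤ Nat.card H * ((p - 1) * (⨅ c ∈ A s, S c).index.factorization p) := by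
        calc Nat.card H * ((p - 2) * gI) = ((p - 2) * Nat.card H) * gI := by ring
          _ ≤ ((p - 1) * m0) * gI := Nat.mul_le_mul_right _ h4
          _ = (p - 1) * (m0 * gI) := by ring
          _ ≤ (p - 1) * (Nat.card H * (⨅ c ∈ A s, S c).index.factorization p) := Nat.mul_le_mul_left _ hs
          _ = _ := by ring
      exact Nat.le_of_mul_le_mul_left h7 Nat.card_pos
    have h8 : (p - 1) * (Nat.card (stabilizer B (D.vec fun c => κ (s • c)))).factorization p ≤
        (p - 1) * (Nat.card (⨅ c ∈ A s, S c : Subgroup B)).factorization p := Nat.mul_le_mul_left _ h2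
    have h9 : (p - 1) * n = (p - 1) * (Nat.card (⨅ c ∈ A s, S c : Subgroup B)).factorization p +
        (p - 1) * (⨅ c ∈ A s, S c).index.factorization p := by
      rw [hn, h1]
      ring
    omega

theorem lin_ge {p : ℕ} (hp : p.Prime) (h7 : 7 ≤ p) (h : Core.{u} p 1 0 2) (hR : Cfsg.Agent.H527.RC.Rat.{u} p 1 7) :
    Lin.{u} p 1 2 7 := by
  haveI : Fact p.Prime := ⟨hp⟩
  intro H V _ _ _ _ _ _ L B hLP hpV hf hcr hBn hBp hBL
  obtain ⟨v, hv, x, g, h1, h2, h3⟩ := lin_odd (by omega) (by omega) le_rfl h hR H V L B hLP hpV hf hcr hBp hBL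
  refine ⟨v, hv, ?_⟩
  obtain ⟨r, rfl⟩ : ∃ r, p = r + 7 := ⟨p - 7, by omega⟩
  have e1 : r + 7 - 2 = r + 5 := by omega
  have e2 : r + 7 - 1 = r + 6 := by omega
  rw [e1, e2] at h3
  generalize (Nat.card (stabilizer B v)).factorization (r + 7) = s at *
  generalize (Nat.card B).factorization (r + 7) = n at *
  subst h2
  -- (r+5) g + (r+6) s ≤ (r+6)(x+g), 7x ≤ x + g
  have h4 : (r + 6) * s ≤ (r + 6) * x + g := by nlinarith
  nlinarith

theorem lin_five (h : Core.{u} 5 1 0 2) (hR : Cfsg.Agent.H527.RC.Rat.{u} 5 0 1) : Lin.{u} 5 1 1 4 := by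
  haveI : Fact (Nat.Prime 5) := ⟨by norm_num⟩
  intro H V _ _ _ _ _ _ L B hLP hpV hf hcr hBn hBp hBL
  obtain ⟨v, hv, x, g, h1, h2, h3⟩ := lin_odd (by omega) (by omega) le_rfl h hR H V L B hLP hpV hf hcr hBp hBL
  refine ⟨v, hv, ?_⟩
  omega

theorem lin_three (h : Core.{u} 3 4 2 3) : Lin.{u} 3 4 1 1 := by
  haveI : Fact (Nat.Prime 3) := ⟨by norm_num⟩
  intro H V _ _ _ _ _ _ L B hLP hpV hf hcr hBn hBp hBL
  obtain ⟨v, hv, -⟩ := lin_odd le_rfl (by omega) (by omega) h (rat_trivial 3) H V L B hLP hpV hf hcr hBp hBL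
  refine ⟨v, hv, Nat.mul_le_mul_left 1 ?_⟩
  exact (Nat.factorization_le_iff_dvd Nat.card_pos.ne' Nat.card_pos.ne').2 (Subgroup.card_subgroup_dvd_card _) 3

theorem lin_two (h : Core.{u} 2 3 2 4) (hR : Cfsg.Agent.H527.RC.Rat.{u} 2 7 15) : Lin.{u} 2 3 7 15 := by
  haveI : Fact (Nat.Prime 2) := ⟨Nat.prime_two⟩
  intro H V _ _ _ _ _ _ L B hLP hpV hf hcr hBn hBp hBL
  haveI hLn : L.Normal := hLP.normal
  have hss := semisimple (L := L) hcr
  obtain ⟨D, hD⟩ := exists_dat (q := 3) (Z := ∅) (t := 3)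
    (fun U hU => lab_two U hU (by omega : 2 ≤ 3) (core_app h hLP hpV hU)) hR hBp hBL hpV hf hss
  obtain ⟨κ, hκ1, hκ2⟩ := exists_two (pact (V := V) hLP)
  refine ⟨D.vec κ, D.gd_vec hss hf hκ1 hκ2, le_trans (Nat.mul_le_mul_left 15 (nu_le_of_le ?_)) hD⟩
  refine (stab_le D hBL κ).trans ?_
  apply le_iInf
  intro c
  exact iInf₂_le c (by simp)

end Cfsg.Agent.H478.RC
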