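import Mathlib
import Cfsg.Agent.H478.RC.Gam

/-!
# Local lemmas on a simple submodule (S4191, piece `lin_of_core`)
-/

set_option autoImplicit false
set_option linter.unusedSectionVars false
set_option linter.style.haveILetI false

namespace Cfsg.Agent.H478.RC

open Cfsg.Agent.H527.RC Cfsg.Agent.Omega.EH3.Clif

universe u

variable {H V : Type u} [Group H] [AddCommGroup V] [DistribMulAction H V] {L : Subgroup H}
  {U : Submodule (RL V L) V}

theorem simple_inv (hU : IsSimpleModule (RL V L) U) (X : AddSubgroup U)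
    (hX : ∀ l (hl : l ∈ L), ∀ u ∈ X, (lr l hl : RL V L) • u ∈ X) : X = ⊥ ∨ X = ⊤ := by
  let X' : Submodule (RL V L) V := ofInv (X.map U.subtype.toAddMonoidHom) (by
    rintro l hl _ ⟨u, hu, rfl⟩
    exact ⟨(lr l hl : RL V L) • u, hX l hl u hu, rfl⟩)
  have hX' : ∀ u : U, (u : V) ∈ X' ↔ u ∈ X := by
    intro u
    constructor
    · rintro ⟨w, hw, h1⟩
      have h2 : w = u := Subtype.ext h1
      rw [← h2]
      exact hw
    · intro hu
      exact ⟨u, hu, rfl⟩
  have h1 : X' ≤ U := by
    rintro _ ⟨w, hw, rfl⟩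
    exact w.2
  rcases (isSimpleModule_iff_isAtom.1 hU).le_iff.1 h1 with h2 | h2
  · left
    rw [eq_bot_iff]
    intro u hu
    rw [AddSubgroup.mem_bot]
    apply Subtype.ext
    rw [← hX', h2] at hu
    exact hu
  · right
    rw [eq_top_iff]
    intro u _
    rw [← hX', h2]
    exact u.2

variable (U) in
/-- twisted additive injections -/
structure TwI (h : H) (G : U →+ V) : Prop where
  tw : ∀ l (hl : l ∈ L) (u : U), G ((lr l hl : RL V L) • u) = (h * l * h⁻¹) • G u
  inj : Function.Injective G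

theorem TwI.range_le [hL : L.Normal] (hU : IsSimpleModule (RL V L) U) {h h' : H} {G G' : U →+ V} (a : TwI U h G) (b : TwI U h' G')
    {u u' : U} (hu : u ≠ 0) (he : G u = G' u') (w : U) : ∃ w', G' w' = G w := by
  let X : AddSubgroup U :=
    { carrier := {w | ∃ w', G' w' = G w}
      zero_mem' := ⟨0, by rw [map_zero, map_zero]⟩
      add_mem' := by
        rintro x y ⟨x', hx⟩ ⟨y', hy⟩
        exact ⟨x' + y', by rw [map_add, map_add, hx, hy]⟩
      neg_mem' := by
        rintro x ⟨x', hx⟩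
        exact ⟨-x', by rw [map_neg, map_neg, hx]⟩ }
  have hX : X = ⊥ ∨ X = ⊤ := by
    apply simple_inv hU
    rintro l hl x ⟨x', hx⟩
    have h1 : h'⁻¹ * (h * l * h⁻¹) * h'⁻¹⁻¹ ∈ L := hL.conj_mem _ (hL.conj_mem l hl h) _
    refine ⟨(lr _ h1 : RL V L) • x', ?_⟩
    rw [b.tw _ h1, a.tw l hl, hx]
    congr 1
    group
  rcases hX with h1 | h1
  · exfalso
    apply hu
    have h2 : u ∈ X := ⟨u', he.symm⟩
    rw [h1] at h2
    exact h2
  · have h2 : w ∈ X := by rw [h1]; trivial
    exact h2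

/-- two twisted injections with a common nonzero value differ by a twisted automorphism -/
theorem TwI.exists_tw [Finite V] [hL : L.Normal] (hU : IsSimpleModule (RL V L) U) {h h' : H} {G G' : U →+ V} (a : TwI U h G)
    (b : TwI U h' G') {u u' : U} (hu : u ≠ 0) (he : G u = G' u') :
    ∃ φ : AU U, Tw U (h'⁻¹ * h) φ ∧ φ u = u' := by
  choose F hF using fun w => a.range_le hU b hu he w
  let f : U →ₗ[ℤ] U := (AddMonoidHom.mk' F (by
    intro x y
    apply b.inj
    rw [hF, map_add, map_add, hF, hF])).toIntLinearMap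
  have hf : Function.Injective f := by
    intro x y hxy
    apply a.inj
    rw [← hF, ← hF]
    exact congrArg G' hxy
  have hf2 : Function.Surjective f := Finite.surjective_of_injective hf
  refine ⟨LinearEquiv.ofBijective f ⟨hf, hf2⟩, ?_, ?_⟩
  · intro l hl w
    have h1 : (h'⁻¹ * h) * l * (h'⁻¹ * h)⁻¹ ∈ L := hL.conj_mem l hl _
    have h2 : F ((lr l hl : RL V L) • w) = (lr _ h1 : RL V L) • F w := by
      apply b.inj
      rw [hF, a.tw, b.tw _ h1, hF]
      congr 1
      group
    exact congrArg Subtype.val h2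
  · apply b.inj
    rw [← he, ← hF]
    rfl

/-- the `p`-part of a twisted automorphism -/
theorem Tw.exists_pel [Finite V] [L.Normal] {p : ℕ} [Fact p.Prime] {y : H} {φ : AU U} (h : Tw U y φ) (hy : PEl p y) :
    ∃ ψ : AU U, Tw U y ψ ∧ PEl p ψ ∧ ∀ u : U, φ u = u → ψ u = u := by
  obtain ⟨k, hk⟩ := hy
  obtain ⟨a, m, hm, ham⟩ := Nat.exists_eq_pow_mul_and_not_dvd (orderOf_pos φ).ne' p (Fact.out : p.Prime).ne_one
  have hco : Nat.Coprime (p ^ k) m := Nat.Coprime.pow_left k (((Fact.out : p.Prime).coprime_iff_not_dvd).2 hm)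
  obtain ⟨n, hn1, hn2⟩ := Nat.chineseRemainder hco 1 0
  have h1 : ∀ n : ℕ, Tw U (y ^ n) (φ ^ n) := by
    intro n
    induction n with
    | zero => simpa using Tw.one U
    | succ n ih =>
      rw [pow_succ, pow_succ]
      exact ih.mul h
  have h2 : y ^ n = y := by
    have h3 := pow_eq_pow_mod n hk
    have h4 := pow_eq_pow_mod 1 hk
    rw [h3, hn1, ← h4, pow_one]
  refine ⟨φ ^ n, by simpa [h2] using h1 n, ⟨a, ?_⟩, ?_⟩
  · rw [← pow_mul, ← orderOf_dvd_iff_pow_eq_one, ham, mul_comm n]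
    exact Nat.mul_dvd_mul_left _ ((Nat.modEq_zero_iff_dvd).1 hn2)
  · intro u hu
    have h5 : ∀ n : ℕ, (φ ^ n) u = u := by
      intro n
      induction n with
      | zero => rfl
      | succ n ih =>
        rw [pow_succ, LinearEquiv.mul_apply, hu, ih]
    exact h5 n

theorem smul_Gam [L.Normal] (γ : Gam U) (u : U) : γ • u = (γ : AU U) u := rfl

/-- **`Core` on a simple submodule** -/
theorem core_app {p t m k : ℕ} [Fact p.Prime] (hcore : Core.{u} p t m k) [Finite H] [Group.IsSolvable H] [Finite V] [L.Normal]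
    (hLP : LP p L) (hpV : ¬ p ∣ Nat.card V) (hU : IsSimpleModule (RL V L) U) :
    FH m (Lt U p hU) ∨ Orbs (Gam U) k (Gd (V := U) p t (Lt U p hU)) := by
  haveI := hU
  haveI : Nontrivial U := IsSimpleModule.nontrivial (RL V L) U
  haveI := solvable_Gam hU
  -- the exponent
  obtain ⟨r, hr, hrd⟩ := Nat.exists_prime_and_dvd (n := Nat.card U) Finite.one_lt_card.ne'
  haveI : Fact r.Prime := ⟨hr⟩
  have hrp : r ≠ p := by
    rintro rfl
    exact hpV (hrd.trans (AddSubgroup.card_addSubgroup_dvd_card U.toAddSubgroup))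
  have hexp : ∀ w : U, r • w = 0 := by
    obtain ⟨x, hx⟩ := exists_prime_addOrderOf_dvd_card' (G := U) r hrd
    let X : AddSubgroup U := (nsmulAddMonoidHom (α := U) r).ker
    have hX : X = ⊥ ∨ X = ⊤ := by
      apply simple_inv hU
      intro l hl w hw
      have h1 : r • w = 0 := hw
      change r • ((lr l hl : RL V L) • w) = 0
      rw [smul_comm, h1, smul_zero]
    have hx0 : x ∈ X := by
      change r • x = 0
      rw [← hx]
      exact addOrderOf_nsmul_eq_zero x
    rcases hX with h1 | h1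
    · exfalso
      rw [h1, AddSubgroup.mem_bot] at hx0
      rw [hx0, addOrderOf_zero] at hx
      exact hr.one_lt.ne hx
    · intro w
      have h2 : w ∈ X := by rw [h1]; trivial
      exact h2
  refine hcore (Gam U) U (Lt U p hU) r (lp_Lt hLP hU) hr hrp hexp ?_ ?_
  · intro γ hγ
    apply Subtype.ext
    ext u
    exact congrArg Subtype.val (hγ u)
  · intro X hX
    apply simple_inv hU
    intro l hl u hu
    exact hX ⟨rho U ⟨l, hl⟩, rho_mem _⟩ (rho_mem_Lt hU ⟨l, hl⟩) u hu

end Cfsg.Agent.H478.RC
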