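import Mathlib

/-!
# Submodularity of the index for `p`-groups (S4191, piece `lin_of_core`)
-/

set_option autoImplicit false
set_option linter.unusedSectionVars false

namespace Cfsg.Agent.H478.RC

variable {B : Type*} [Group B] [Finite B] {p : ℕ} [Fact p.Prime]

theorem relIndex_pow (hB : IsPGroup p B) (S Y : Subgroup B) : ∃ n : ℕ, S.relIndex Y = p ^ n :=
  (hB.to_subgroup Y).index (S.subgroupOf Y)

theorem nu_inf (Y S : Subgroup B) :
    (Y ⊓ S).index.factorization p = (S.relIndex Y).factorization p + Y.index.factorization p := by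
  have h1 : (Y ⊓ S).relIndex Y * Y.index = (Y ⊓ S).index := Subgroup.relIndex_mul_index inf_le_left
  rw [Subgroup.inf_relIndex_left] at h1
  have h2 : S.relIndex Y ≠ 0 := by
    intro h
    rw [h, zero_mul] at h1
    exact Subgroup.index_ne_zero_of_finite h1.symm
  rw [← h1, Nat.factorization_mul h2 Subgroup.index_ne_zero_of_finite, Finsupp.add_apply]

theorem nu_mono (hB : IsPGroup p B) (S : Subgroup B) {X Y : Subgroup B} (h : X ≤ Y) :
    (S.relIndex X).factorization p ≤ (S.relIndex Y).factorization p := by
  have hp : p.Prime := Fact.out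
  obtain ⟨a, ha⟩ := relIndex_pow hB S X
  obtain ⟨b, hb⟩ := relIndex_pow hB S Y
  have h1 : S.relIndex X ≤ S.relIndex Y := by
    apply Subgroup.relIndex_le_of_le_right h
    rw [hb]
    exact pow_ne_zero _ hp.ne_zero
  rw [ha, hb] at h1 ⊢
  rw [hp.factorization_pow, hp.factorization_pow, Finsupp.single_eq_same, Finsupp.single_eq_same]
  exact (Nat.pow_le_pow_iff_right hp.one_lt).1 h1

/-- **Covering inequality.** -/
theorem shearer (hB : IsPGroup p B) {I T : Type*} [Finite I] [Fintype T] (S : I → Subgroup B) (A : T → Set I) (m : ℕ)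
    (hm : ∀ i, m ≤ Nat.card {t // i ∈ A t}) :
    m * ((⨅ i, S i).index.factorization p) ≤ ∑ t, (⨅ i ∈ A t, S i).index.factorization p := by
  classical
  haveI : Fintype I := Fintype.ofFinite I
  have key : ∀ J : Finset I, m * ((⨅ i ∈ J, S i).index.factorization p) ≤
      ∑ t, (⨅ i ∈ J, ⨅ (_ : i ∈ A t), S i).index.factorization p := by
    intro J
    induction J using Finset.induction_on with
    | empty => simp
    | insert i J hi ih =>
      have h1 : (⨅ j ∈ insert i J, S j) = (⨅ j ∈ J, S j) ⊓ S i := by
        rw [Finset.iInf_insert, inf_comm]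
      rw [h1, nu_inf, mul_add]
      have h2 : ∀ t, (⨅ j ∈ J, ⨅ (_ : j ∈ A t), S j).index.factorization p +
          (if i ∈ A t then ((S i).relIndex (⨅ j ∈ J, S j)).factorization p else 0) ≤
          (⨅ j ∈ insert i J, ⨅ (_ : j ∈ A t), S j).index.factorization p := by
        intro t
        rw [Finset.iInf_insert]
        by_cases hit : i ∈ A t
        · rw [if_pos hit]
          have h3 : (⨅ (_ : i ∈ A t), S i) = S i := by simp [hit]
          rw [h3, inf_comm, nu_inf, add_comm]
          apply Nat.add_le_add_right
          apply nu_mono hB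
          apply le_iInf₂
          intro j hj
          apply le_iInf
          intro _
          exact iInf₂_le j hj
        · rw [if_neg hit, add_zero]
          have h3 : (⨅ (_ : i ∈ A t), S i) = ⊤ := by simp [hit]
          rw [h3, top_inf_eq]
      refine le_trans ?_ (Finset.sum_le_sum (fun t _ => h2 t))
      rw [Finset.sum_add_distrib, add_comm]
      apply Nat.add_le_add ih
      rw [← Finset.sum_filter, Finset.sum_const, smul_eq_mul]
      apply Nat.mul_le_mul_right
      refine (hm i).trans ?_
      rw [Nat.card_eq_fintype_card, Fintype.card_subtype]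
  have h1 := key Finset.univ
  simpa using h1

end Cfsg.Agent.H478.RC
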