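import Mathlib
import Cfsg.Agent.H478.RC.Vec

/-!
# The vector of a rigid colouring is good (S4191, piece `lin_of_core`)
-/

set_option autoImplicit false
set_option linter.unusedSectionVars false
set_option linter.style.haveILetI false

namespace Cfsg.Agent.H478.RC

open Cfsg.Agent.H527.RC Cfsg.Agent.Omega.EH3.Clif
open scoped commutatorElement

universe u

variable {H V : Type u} [Group H] [AddCommGroup V] [DistribMulAction H V] {L : Subgroup H}

theorem comm_smul {b : H} (hb : ∀ l ∈ L, b * l = l * b) (r : RL V L) (v : V) : r • (b • v) = b • (r • v) := by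
  obtain ⟨r, hr⟩ := r
  change r (b • v) = b • r v
  induction hr using Subring.closure_induction generalizing v with
  | mem x hx =>
    obtain ⟨l, rfl⟩ := hx
    change (l : H) • b • v = b • (l : H) • v
    rw [← mul_smul, ← mul_smul, hb l l.2]
  | zero => exact (smul_zero b).symm
  | one => rfl
  | add x y _ _ hx hy =>
    change x (b • v) + y (b • v) = b • (x v + y v)
    rw [hx, hy, smul_add]
  | neg x _ hx =>
    change -x (b • v) = b • (-x v)
    rw [hx, smul_neg]
  | mul x y _ _ hx hy =>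
    change x (y (b • v)) = b • x (y v)
    rw [hy, hx]

/-- an element commuting with `L` as a linear map -/
def endo {b : H} (hb : ∀ l ∈ L, b * l = l * b) : V →ₗ[RL V L] V where
  toFun v := b • v
  map_add' := smul_add b
  map_smul' r v := (comm_smul hb r v).symm

variable [Finite V] [hL : L.Normal] {p t q : ℕ} [Fact p.Prime] {Z : Set ℕ} (D : Dat V L p t q Z)

theorem comm_fix {b : H} (hb : ∀ l ∈ L, b * l = l * b) (c : CI V L) : b • c = c := by
  have h1 := Submodule.IsFullyInvariant.of_mem_isotypicComponents c.2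
  have hb' : ∀ l ∈ L, b⁻¹ * l = l * b⁻¹ := by
    intro l hl
    have := hb l hl
    rw [inv_mul_eq_iff_eq_mul, ← mul_assoc, this, mul_inv_cancel_right]
  apply Subtype.ext
  ext v
  rw [mem_smul_comp]
  constructor
  · intro h
    have h2 := h1 (endo hb) h
    rw [Submodule.mem_comap] at h2
    have h3 : endo hb (b⁻¹ • v) = v := smul_inv_smul b v
    rwa [h3] at h2
  · intro h
    exact h1 (endo hb') h

namespace Dat

/-- rigid on the orbits -/
def _root_.Cfsg.Agent.H478.RC.Rg (H : Type*) {C : Type*} [Group H] [MulAction H C] (κ : C → ℕ) : Prop :=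
  ∀ (y : H) (c : C), (∀ c' ∈ MulAction.orbit H c, κ (y • c') = κ c') → y • c = c

/-- the map to `Gam` -/
def toGam (c : CI V L) : L →* Gam (D.S (D.o c)) :=
  ((rho (D.S (D.o c))).codRestrict (Gam _) rho_mem).comp (MulAut.conjNormal (D.hh c)⁻¹).toMonoidHom

theorem toGam_apply (c : CI V L) (l : L) :
    ((D.toGam c l : Gam (D.S (D.o c))) : AU (D.S (D.o c))) = rho _ (MulAut.conjNormal (D.hh c)⁻¹ l) := rfl

theorem toGam_eq_one {c : CI V L} {x : L} (h : D.toGam c x = 1) {w : V} (hw : w ∈ cj (D.hh c) (D.S (D.o c))) :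
    (x : H) • w = w := by
  have h1 : (D.hh c)⁻¹ • w ∈ D.S (D.o c) := hw
  have h2 := congrArg (fun φ : Gam (D.S (D.o c)) => (((φ : AU _) ⟨_, h1⟩ : D.S (D.o c)) : V)) h
  simp only [toGam_apply, rho_apply, MulAut.conjNormal_apply, inv_inv] at h2
  have h3 : ((D.hh c)⁻¹ * (x : H) * D.hh c) • (D.hh c)⁻¹ • w = (D.hh c)⁻¹ • w := h2
  rw [← mul_smul, mul_inv_cancel_right, mul_smul] at h3
  exact MulAction.injective _ h3

theorem joint (hss : IsSemisimpleModule (RL V L) V) (hf : ∀ h : H, (∀ v : V, h • v = v) → h = 1) {x : L}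
    (h : ∀ c, D.toGam c x = 1) : x = 1 := by
  apply Subtype.ext
  apply hf
  apply all_of_simple hss
  · exact smul_zero _
  · intro v w hv hw
    rw [smul_add, hv, hw]
  · intro m hm v hv
    let c : CI V L := ⟨isotypicComponent (RL V L) V m, m, hm, rfl⟩
    haveI := hm
    haveI := cj_simple (D.hh c) (D.simple (D.o c))
    have h1 : m ≤ isotypicComponent (RL V L) V (cj (D.hh c) (D.S (D.o c))) := by
      rw [← D.comp' c]
      exact m.le_isotypicComponent
    obtain ⟨e⟩ := isIsotypicOfType_submodule_iff.1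
      (IsIsotypicOfType.isotypicComponent (RL V L) V (cj (D.hh c) (D.S (D.o c)))) _ h1
    have h2 : (lr (x : H) x.2 : RL V L) • (⟨v, hv⟩ : m) = ⟨v, hv⟩ := by
      apply e.injective
      rw [map_smul]
      exact Subtype.ext (D.toGam_eq_one (h c) (e ⟨v, hv⟩).2)
    exact congrArg Subtype.val h2

/-- distinct labels are inequivalent -/
def PB (x : CI V L) : Prop := ∀ i < q, ∀ j < q, ∀ γ : Gam (D.S x), γ • D.g x i = D.g x j → i = j

theorem fix_of_rg {κ : CI V L → ℕ} (hκ : ∀ c, κ c < q) (hR : Rg H κ) {y : H} (hy : y • D.vec κ = D.vec κ) {c : CI V L}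
    (hB : D.PB (D.o c)) : y • c = c := by
  apply hR
  intro c' hc'
  have e : D.o c' = D.o c := D.orbit_o hc'
  have hB' : D.PB (D.o c') := by rw [e]; exact hB
  have h1 := D.smul_val hy c'
  exact (D.lab_aux (c := c') (D.inv y c') (D.twI (y • c')) (hκ c') (hκ (y • c')) h1 hB').symm

/-- **The vector is good.** -/
theorem gd_vec (hss : IsSemisimpleModule (RL V L) V) (hf : ∀ h : H, (∀ v : V, h • v = v) → h = 1)
    {κ : CI V L → ℕ} (hκ : ∀ c, κ c < q) (hR : Rg H κ) : Gd p t L (D.vec κ) := by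
  intro y hyp hyv
  have hle : ⁅L, Subgroup.zpowers y⁆ ≤ L := Subgroup.commutator_le_left _ _
  refine FH.subdirect (I := CI V L) (G' := fun c => Gam (D.S (D.o c)))
    (fun c => (D.toGam c).comp (Subgroup.inclusion hle)) ?_ ?_
  · intro x hx
    have h1 := D.joint hss hf (x := Subgroup.inclusion hle x) hx
    have h2 := congrArg (fun z : L => (z : H)) h1
    exact Subtype.ext h2
  · intro c
    rcases D.alt (D.o c) with hA | ⟨hG, hB⟩
    · refine FH.subgroup (B := Lt _ p (D.simple (D.o c))) ?_ hA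
      rintro _ ⟨x, rfl⟩
      exact rho_mem_Lt (D.simple (D.o c)) _
    · have h1 : y • c = c := D.fix_of_rg hκ hR hyv hB
      have h2 := D.smul_val hyv c
      rw [h1] at h2
      obtain ⟨φ, hφ1, hφ2⟩ := D.exists_phi h1 h2
      have hyp' : PEl p ((D.hh c)⁻¹ * (y * D.hh c)) := by
        obtain ⟨k, hk⟩ := hyp
        refine ⟨k, ?_⟩
        have h3 : (D.hh c)⁻¹ * (y * D.hh c) = (D.hh c)⁻¹ * y * (D.hh c)⁻¹⁻¹ := by group
        rw [h3, conj_pow, hk]
        group
      obtain ⟨ψ, hψ1, hψ2, hψ3⟩ := hφ1.exists_pel hyp'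
      have hψ4 := hψ3 _ hφ2
      let ψ' : Gam (D.S (D.o c)) := ⟨ψ, mem_Gam.2 ⟨_, hψ1⟩⟩
      have h4 : PEl p ψ' := by
        obtain ⟨k, hk⟩ := hψ2
        exact ⟨k, Subtype.ext hk⟩
      refine FH.subgroup ?_ (hG (κ c) (hκ c) ψ' h4 hψ4)
      -- the commutators
      have h5 : ⁅L, Subgroup.zpowers y⁆ ≤
          ((⁅Lt _ p (D.simple (D.o c)), Subgroup.zpowers ψ'⁆ : Subgroup (Gam (D.S (D.o c)))).comap (D.toGam c)).map L.subtype := by
        rw [Subgroup.commutator_le]
        rintro g hg _ ⟨n, rfl⟩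
        refine ⟨⟨⁅g, y ^ n⁆, hle (Subgroup.commutator_mem_commutator hg ⟨n, rfl⟩)⟩, ?_, rfl⟩
        have h6 : D.toGam c ⟨⁅g, y ^ n⁆, hle (Subgroup.commutator_mem_commutator hg ⟨n, rfl⟩)⟩ =
            ⁅D.toGam c ⟨g, hg⟩, ψ' ^ n⁆ := by
          set y' : H := (D.hh c)⁻¹ * (y * D.hh c) with hy'
          set g' : L := MulAut.conjNormal (D.hh c)⁻¹ ⟨g, hg⟩ with hg'
          have h7 : Tw (D.S (D.o c)) (y' ^ n) (ψ ^ n) := hψ1.zpow n
          have h8 : y' ^ n = (D.hh c)⁻¹ * y ^ n * D.hh c := by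
            have h3 : y' = (D.hh c)⁻¹ * y * (D.hh c)⁻¹⁻¹ := by rw [hy']; group
            rw [h3, conj_zpow, inv_inv]
          have h9 : (MulAut.conjNormal (D.hh c)⁻¹ (⟨⁅g, y ^ n⁆, hle (Subgroup.commutator_mem_commutator hg ⟨n, rfl⟩)⟩ : L) : L) =
              g' * ⟨y' ^ n * ((g'⁻¹ : L) : H) * (y' ^ n)⁻¹, hL.conj_mem _ (g'⁻¹).2 _⟩ := by
            apply Subtype.ext
            change (D.hh c)⁻¹ * ⁅g, y ^ n⁆ * (D.hh c)⁻¹⁻¹ = ((D.hh c)⁻¹ * g * (D.hh c)⁻¹⁻¹) *
              (y' ^ n * ((D.hh c)⁻¹ * g * (D.hh c)⁻¹⁻¹)⁻¹ * (y' ^ n)⁻¹)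
            rw [h8, commutatorElement_def]
            group
          have h10 := h7.conj (g'⁻¹)
          apply Subtype.ext
          rw [toGam_apply, h9, map_mul, eq_mul_inv_of_mul_eq h10.symm, commutatorElement_def, Subgroup.coe_mul,
            Subgroup.coe_mul, Subgroup.coe_mul, Subgroup.coe_inv, Subgroup.coe_inv, Subgroup.coe_zpow, toGam_apply, map_inv]
          change rho _ g' * (ψ ^ n * (rho _ g')⁻¹ * (ψ ^ n)⁻¹) = rho _ g' * ψ ^ n * (rho _ g')⁻¹ * (ψ ^ n)⁻¹
          group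
        rw [SetLike.mem_coe, Subgroup.mem_comap, h6]
        exact Subgroup.commutator_mem_commutator (rho_mem_Lt (D.simple (D.o c)) _) ⟨n, rfl⟩
      rintro _ ⟨x, rfl⟩
      obtain ⟨l, hl1, hl2⟩ := h5 x.2
      have h6 : Subgroup.inclusion hle x = l := Subtype.ext hl2.symm
      rw [MonoidHom.comp_apply, h6]
      exact hl1

/-- **The stabilizer in the central part.** -/
theorem stab_vec {κ : CI V L → ℕ} {b : H} (hb : ∀ l ∈ L, b * l = l * b) (hv : b • D.vec κ = D.vec κ) {c : CI V L}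
    (hc : κ c ∉ Z) (w : cj (D.hh c) (D.S (D.o c))) : b • D.f c w = D.f c w := by
  have h1 := D.smul_val hv c
  rw [comm_fix hb c] at h1
  let X : AddSubgroup (cj (D.hh c) (D.S (D.o c))) :=
    { carrier := {w | b • D.f c w = D.f c w}
      zero_mem' := by
        change b • D.f c 0 = D.f c 0
        rw [map_zero, smul_zero]
      add_mem' := by
        intro x y hx hy
        change b • D.f c (x + y) = D.f c (x + y)
        have hx' : b • D.f c x = D.f c x := hx
        have hy' : b • D.f c y = D.f c y := hy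
        rw [map_add, smul_add, hx', hy']
      neg_mem' := by
        intro x hx
        change b • D.f c (-x) = D.f c (-x)
        have hx' : b • D.f c x = D.f c x := hx
        rw [map_neg, smul_neg, hx'] }
  have hX : X = ⊥ ∨ X = ⊤ := by
    apply simple_inv (cj_simple (D.hh c) (D.simple (D.o c)))
    intro l hl x hx
    have hx' : b • D.f c x = D.f c x := hx
    change b • D.f c ((lr l hl : RL V L) • x) = D.f c ((lr l hl : RL V L) • x)
    rw [map_smul, ← comm_smul hb, hx']
  rcases hX with h2 | h2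
  · exfalso
    have h3 : (⟨D.hh c • (D.g (D.o c) (κ c) : V), smul_mem_cj.2 (D.g (D.o c) (κ c)).2⟩ : cj (D.hh c) (D.S (D.o c))) ∈ X := h1
    rw [h2, AddSubgroup.mem_bot] at h3
    apply D.nz (D.o c) (κ c) hc
    have h4 := congrArg Subtype.val h3
    have h5 : D.hh c • (D.g (D.o c) (κ c) : V) = 0 := h4
    rw [smul_eq_zero_iff_eq] at h5
    exact Subtype.ext h5
  · have h3 : w ∈ X := by rw [h2]; trivial
    exact h3

end Dat

end Cfsg.Agent.H478.RC
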